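import Groth.Agent.StratLib.Light
import Groth.Agent.GenusZeroLib.PSmooth
import Groth.Agent.EtaEtLib.Fibres
import Groth.Agent.QCohLib.ProjSpace

/-!
# The projective line over a ring as the union of two affine lines
-/

set_option autoImplicit false
set_option linter.style.haveILetI false
set_option linter.unusedSectionVars false
set_option backward.isDefEq.respectTransparency false
set_option backward.isDefEq.respectTransparency.types false
set_option maxHeartbeats 2000000

universe u

open CategoryTheory CategoryTheory.Limits AlgebraicGeometry Polynomial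

noncomputable section

namespace PunctHensLib

variable (A : Type u) [CommRing A]

/-- The structure map of the affine line. -/
abbrev lineMap : Spec (CommRingCat.of A[X]) ⟶ Spec (CommRingCat.of A) :=
  Spec.map (CommRingCat.ofHom (Polynomial.C : A →+* A[X]))

/-- The polynomial ring as a chart ring of the projective line. -/
def chartHom (i : Fin 2) : A[X] →+* HomogeneousLocalization.Away (CohB1.polyGrading 1 A) (MvPolynomial.X i : MvPolynomial (Fin 2) A) :=
  eval₂RingHom (GradedCechLib.cst 1 A (MvPolynomial.X i)) (GradedCechLib.deh₀ 1 A i (MvPolynomial.X (i.succAbove 0)))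

theorem chartHom_bijective (i : Fin 2) : Function.Bijective (chartHom A i) := by
  let e : A[X] →+* MvPolynomial (Fin 1) A := eval₂RingHom MvPolynomial.C (MvPolynomial.X 0)
  have he : Function.Bijective e := by
    let e' : MvPolynomial (Fin 1) A →+* A[X] := MvPolynomial.eval₂Hom Polynomial.C fun _ => X
    have h1 : e'.comp e = RingHom.id _ := Polynomial.ringHom_ext (fun r => by simp [e, e']) (by simp [e, e'])
    have h2 : e.comp e' = RingHom.id _ := MvPolynomial.ringHom_ext (fun r => by simp [e, e'])
      fun j => by simp [e, e', Subsingleton.elim j 0]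
    exact Function.bijective_iff_has_inverse.2 ⟨e', fun x => RingHom.congr_fun h1 x, fun x => RingHom.congr_fun h2 x⟩
  have h : chartHom A i = (GenusZeroLib.chartPoly 1 A i).comp e :=
    Polynomial.ringHom_ext (fun r => by simp [chartHom, e, GenusZeroLib.chartPoly])
      (by simp [chartHom, e, GenusZeroLib.chartPoly])
  rw [h, RingHom.coe_comp]
  exact (GenusZeroLib.chartPoly_bijective 1 A i).comp he

/-- The charts of the projective line. -/
def chart (i : Fin 2) : Spec (CommRingCat.of A[X]) ⟶ CohB1.ProjSpace 1 A :=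
  Spec.map (RingEquiv.ofBijective _ (chartHom_bijective A i)).symm.toCommRingCatIso.hom ≫ GradedCechLib.chartι 1 A i

instance isOpenImmersion_chart (i : Fin 2) : IsOpenImmersion (chart A i) := by
  haveI : IsOpenImmersion (GradedCechLib.chartι 1 A i) := inferInstanceAs (IsOpenImmersion (Proj.awayι _ _ _ _))
  haveI : IsIso (Spec.map (RingEquiv.ofBijective _ (chartHom_bijective A i)).symm.toCommRingCatIso.hom) := inferInstance
  delta chart
  infer_instance

theorem opensRange_chart (i : Fin 2) : (chart A i).opensRange = QCohLib.stdOpen 1 A i := by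
  haveI : IsOpenImmersion (GradedCechLib.chartι 1 A i) := inferInstanceAs (IsOpenImmersion (Proj.awayι _ _ _ _))
  show (Spec.map (RingEquiv.ofBijective _ (chartHom_bijective A i)).symm.toCommRingCatIso.hom ≫ GradedCechLib.chartι 1 A i).opensRange = _
  rw [Scheme.Hom.opensRange_comp_of_isIso]
  exact Proj.opensRange_awayι _ _ _ _

theorem chart_toSpec (i : Fin 2) : chart A i ≫ CohB1.ProjSpace.toSpec 1 A = lineMap A := by
  have hκ : GradedCechLib.chartι 1 A i ≫ CohB1.ProjSpace.toSpec 1 A =
      Spec.map (CommRingCat.ofHom (GradedCechLib.cst 1 A (MvPolynomial.X i))) := by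
    simp only [CohB1.ProjSpace.toSpec, GradedCechLib.chartι]
    erw [Proj.awayι_toSpecZero_assoc, ← Spec.map_comp]
    rfl
  rw [chart, Category.assoc, hκ, ← Spec.map_comp]
  congr 1
  refine CommRingCat.hom_ext (RingHom.ext fun c => ?_)
  show (RingEquiv.ofBijective _ (chartHom_bijective A i)).symm _ = Polynomial.C c
  rw [RingEquiv.symm_apply_eq]
  show _ = chartHom A i (Polynomial.C c)
  simp [chartHom]
  rfl

theorem smooth_toSpec : Smooth (CohB1.ProjSpace.toSpec 1 A) := by
  haveI : Smooth (lineMap A) := by
    rw [HasRingHomProperty.Spec_iff (P := @Smooth)]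
    haveI : Algebra.Smooth A (MvPolynomial PUnit.{u + 1} A) := ⟨inferInstance, inferInstance⟩
    exact RingHom.smooth_algebraMap.2 (Algebra.Smooth.of_equiv (MvPolynomial.pUnitAlgEquiv A))
  refine IsZariskiLocalAtSource.of_iSup_eq_top (P := @Smooth) (fun i => (chart A i).opensRange)
    (by simp_rw [opensRange_chart]; exact QCohLib.iSup_stdOpen 1 A) fun i => ?_
  have e : (chart A i).opensRange.ι = (chart A i).isoOpensRange.inv ≫ chart A i :=
    ((chart A i).isoOpensRange_inv_comp).symm
  rw [e, Category.assoc, chart_toSpec]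
  infer_instance

theorem chart_one_preimage : chart A 1 ⁻¹ᵁ QCohLib.stdOpen 1 A 0 = PrimeSpectrum.basicOpen (X : A[X]) := by
  let E := RingEquiv.ofBijective _ (chartHom_bijective A 1)
  rw [chart, Scheme.Hom.comp_preimage]
  show Spec.map E.symm.toCommRingCatIso.hom ⁻¹ᵁ
    (Proj.awayι (CohB1.polyGrading 1 A) _ (GradedCechLib.X_mem 1 A 1) one_pos ⁻¹ᵁ Proj.basicOpen _ _) = _
  rw [Proj.awayι_preimage_basicOpen _ _ _ (GradedCechLib.X_mem 1 A 0) one_pos]
  refine Eq.trans (PrimeSpectrum.comap_basicOpen E.symm.toRingHom _) (congrArg PrimeSpectrum.basicOpen ?_)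
  rw [RingEquiv.toRingHom_eq_coe, RingEquiv.coe_toRingHom, RingEquiv.symm_apply_eq]
  show _ = chartHom A 1 X
  simp only [chartHom, coe_eval₂RingHom, eval₂_X]
  apply HomogeneousLocalization.val_injective
  rw [GradedCechLib.val_deh₀_X, HomogeneousLocalization.Away.val_mk]
  rw [Localization.mk_eq_mk_iff, Localization.r_iff_exists]
  exact ⟨1, by simp [GradedCechLib.xpw]⟩

/-- The zero section. -/
def zeroSection : Spec (CommRingCat.of A) ⟶ CohB1.ProjSpace 1 A :=
  Spec.map (CommRingCat.ofHom (Polynomial.evalRingHom (0 : A))) ≫ chart A 1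

theorem range_zeroSection : Set.range (zeroSection A).base = (Set.range (chart A 0).base)ᶜ := by
  have h0 : Set.range (chart A 0).base = (QCohLib.stdOpen 1 A 0 : Set (CohB1.ProjSpace 1 A)) := by
    rw [← opensRange_chart]; rfl
  have hs : Function.Surjective (Polynomial.evalRingHom (0 : A)) := fun a => ⟨C a, by simp⟩
  have hr : Set.range (Spec.map (CommRingCat.ofHom (Polynomial.evalRingHom (0 : A)))).base =
      {w : PrimeSpectrum A[X] | (X : A[X]) ∈ w.asIdeal} := by
    show Set.range (PrimeSpectrum.comap (Polynomial.evalRingHom (0 : A))) = _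
    rw [_root_.range_comap_of_surjective _ _ hs, Polynomial.ker_evalRingHom, map_zero, sub_zero,
      PrimeSpectrum.zeroLocus_span]
    ext w
    simp
  rw [h0, zeroSection, Scheme.Hom.comp_base, TopCat.coe_comp, Set.range_comp, hr]
  ext x
  constructor
  · rintro ⟨w, hw, rfl⟩ hx
    have h1 : w ∈ chart A 1 ⁻¹ᵁ QCohLib.stdOpen 1 A 0 := hx
    rw [chart_one_preimage] at h1
    exact h1 hw
  · intro hx
    have h2 : x ∈ (⊤ : (CohB1.ProjSpace 1 A).Opens) := trivial
    rw [← QCohLib.iSup_stdOpen 1 A, TopologicalSpace.Opens.mem_iSup] at h2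
    obtain ⟨i, hi⟩ := h2
    fin_cases i
    · exact absurd hi hx
    · rw [← opensRange_chart] at hi
      obtain ⟨w, rfl⟩ := hi
      refine ⟨w, ?_, rfl⟩
      by_contra hw
      exact hx (show w ∈ chart A 1 ⁻¹ᵁ QCohLib.stdOpen 1 A 0 by rw [chart_one_preimage]; exact hw)

instance isClosedImmersion_zeroSection : IsClosedImmersion (zeroSection A) := by
  haveI : IsClosedImmersion (Spec.map (CommRingCat.ofHom (Polynomial.evalRingHom (0 : A)))) :=
    IsClosedImmersion.spec_of_surjective _ (fun a => ⟨C a, by simp⟩)
  haveI : IsPreimmersion (zeroSection A) := by delta zeroSection; infer_instance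
  refine IsClosedImmersion.of_isPreimmersion _ ?_
  rw [range_zeroSection]
  exact (chart A 0).isOpenEmbedding.isOpen_range.isClosed_compl

theorem dense_fibrewise (x : CohB1.ProjSpace 1 A) :
    x ∈ closure (Set.range (chart A 0).base ∩
      {y | (CohB1.ProjSpace.toSpec 1 A).base y = (CohB1.ProjSpace.toSpec 1 A).base x}) := by
  by_cases hx : x ∈ Set.range (chart A 0).base
  · exact subset_closure ⟨hx, rfl⟩
  have hx' : x ∈ Set.range (zeroSection A).base := by rw [range_zeroSection]; exact hx
  obtain ⟨s, rfl⟩ := hx'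
  let p : Ideal A := (s : PrimeSpectrum A).asIdeal
  let η : PrimeSpectrum A[X] := ⟨p.map Polynomial.C, haveI := s.2; Ideal.isPrime_map_C_of_isPrime⟩
  have hsp : (chart A 1).base η ⤳ (zeroSection A).base s := by
    show (chart A 1).base η ⤳ (chart A 1).base _
    refine Specializes.map ?_ (chart A 1).continuous
    refine (PrimeSpectrum.le_iff_specializes _ _).1 ?_
    show p.map Polynomial.C ≤ Ideal.comap (Polynomial.evalRingHom (0 : A)) p
    rw [Ideal.map_le_iff_le_comap, Ideal.comap_comap]
    intro a ha
    simpa using ha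
  refine hsp.mem_closed isClosed_closure (subset_closure ⟨?_, ?_⟩)
  · by_contra hη
    have h0 : (chart A 1).base η ∉ (QCohLib.stdOpen 1 A 0 : Set (CohB1.ProjSpace 1 A)) := by
      rw [← opensRange_chart]; exact hη
    apply h0
    show η ∈ chart A 1 ⁻¹ᵁ QCohLib.stdOpen 1 A 0
    rw [chart_one_preimage]
    intro hX
    have := (Ideal.mem_map_C_iff (f := (X : A[X]))).1 hX 1
    rw [Polynomial.coeff_X_one] at this
    exact s.2.ne_top ((Ideal.eq_top_iff_one _).2 this)
  · show (CohB1.ProjSpace.toSpec 1 A).base ((chart A 1).base η) =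
      (CohB1.ProjSpace.toSpec 1 A).base ((chart A 1).base _)
    rw [← Scheme.Hom.comp_apply, ← Scheme.Hom.comp_apply, chart_toSpec]
    apply PrimeSpectrum.ext
    show Ideal.comap Polynomial.C (p.map Polynomial.C) = Ideal.comap Polynomial.C (Ideal.comap _ p)
    rw [Ideal.comap_comap]
    ext a
    refine ⟨fun h => ?_, fun h => Ideal.mem_map_of_mem _ (by simpa using h)⟩
    have := (Ideal.mem_map_C_iff.1 h) 0
    simpa using this

end PunctHensLib
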