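import Groth.Agent.EtRpushStalkLib.Exists
import Groth.Agent.S12236
import Groth.Agent.HenselLib.HenselizationExists

/-!
# Henselizations at maximal ideals as strict localisations
-/

set_option autoImplicit false
set_option linter.style.haveILetI false
set_option linter.unusedSectionVars false
set_option backward.isDefEq.respectTransparency false
set_option backward.isDefEq.respectTransparency.types false
set_option synthInstance.maxHeartbeats 400000
set_option maxHeartbeats 1000000

universe u

open CategoryTheory CategoryTheory.Limits AlgebraicGeometry Opposite EtProperH0Lib AlgSpRegLib EtRpushStalkLib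

noncomputable section

namespace PunctHensLib

/-- The residue field of a henselization is that of the local ring. -/
theorem residue_surjective_henselization (R : Type u) [CommRing R] [IsLocalRing R] (S : Type u) [CommRing S]
    [IsLocalRing S] [Algebra R S] [IsLocalHom (algebraMap R S)] [Hensel.IsHenselization R S] :
    Function.Surjective ((IsLocalRing.residue S).comp (algebraMap R S)) := fun a => by
  obtain ⟨e⟩ := HenselLib.nonempty_algEquiv_HR (R := R) S
  obtain ⟨s, rfl⟩ := IsLocalRing.residue_surjective a
  obtain ⟨r, hr⟩ := HenselLib.exists_sub_mem_max R (e.symm s)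
  refine ⟨r, ?_⟩
  rw [RingHom.comp_apply, eq_comm, ← sub_eq_zero, ← map_sub, IsLocalRing.residue_eq_zero_iff]
  intro hu
  refine (IsLocalRing.mem_maximalIdeal _).1 hr ?_
  have := hu.map e.symm
  rwa [map_sub, AlgEquiv.commutes] at this

/-- A strictly henselian weakly étale algebra over an affine open gives a chart. -/
theorem nonempty_chart {X : Scheme.{u}} {A R : Type u} [CommRing A] [CommRing R] [HenselianLocalRing R]
    [IsSepClosed (IsLocalRing.ResidueField R)] [Algebra A R] [Algebra.WeaklyEtale A R]
    (ι : Spec (CommRingCat.of A) ⟶ X) [IsOpenImmersion ι] :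
    Nonempty (Chart (Spec.map (CommRingCat.ofHom (algebraMap A R)) ≫ ι)) := by
  let P : Ideal A := (IsLocalRing.maximalIdeal R).comap (algebraMap A R)
  obtain ⟨ψ, hψ, hψι⟩ := exists_shIdent A R P rfl
  obtain ⟨I, _, _, D, ⟨pt, π⟩, hpt, ⟨hc⟩, hD⟩ := exists_sh_system (A := CommRingCat.of A) P
  obtain rfl : pt = Over.mk (Spec.map (CommRingCat.ofHom (shι P))) := hpt
  haveI : IsIso (CommRingCat.ofHom ψ) := (ConcreteCategory.isIso_iff_bijective _).2 hψ
  let e : Spec (CommRingCat.of R) ≅ Spec (CommRingCat.of (ShAt P)) :=
    asIso (Spec.map (CommRingCat.ofHom ψ))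
  have hw : ∀ i, (e.hom ≫ (π.app i).left) ≫ (D.obj i).hom ≫ ι =
      Spec.map (CommRingCat.ofHom (algebraMap A R)) ≫ ι := by
    intro i
    have h1 : (π.app i).left ≫ (D.obj i).hom = Spec.map (CommRingCat.ofHom (shι P)) := Over.w (π.app i)
    rw [← Category.assoc]
    refine congrArg (· ≫ ι) ?_
    rw [Category.assoc, h1]
    show Spec.map (CommRingCat.ofHom ψ) ≫ Spec.map _ = _
    rw [← Spec.map_comp]
    refine congrArg Spec.map (CommRingCat.hom_ext ?_)
    exact hψι
  have hE : ∀ i, EtCoh.etaleMP ((D.obj i).hom ≫ ι) := fun i => by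
    haveI := (hD i).2
    exact (inferInstance : AlgebraicGeometry.Etale ((D.obj i).hom ≫ ι))
  let DS : I ⥤ X.Etale :=
    { obj := fun i => MorphismProperty.Over.mk ⊤ ((D.obj i).hom ≫ ι) (hE i)
      map := fun {i j} a => MorphismProperty.Over.homMk (D.map a).left
        ((Category.assoc _ _ _).symm.trans (congrArg (· ≫ ι) (Over.w (D.map a))))
      map_id := fun i => MorphismProperty.Over.Hom.ext (by
        show (D.map (𝟙 i)).left = 𝟙 _
        rw [D.map_id]; rfl)
      map_comp := fun a b => MorphismProperty.Over.Hom.ext (by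
        show (D.map (a ≫ b)).left = (D.map a).left ≫ (D.map b).left
        rw [D.map_comp]; rfl) }
  have hnat : ∀ {i j : I} (a : i ⟶ j), (π.app i).left ≫ (D.map a).left = (π.app j).left := fun {i j} a => by
    have h := congrArg (fun z : _ ⟶ D.obj j => z.left) (π.naturality a)
    exact h.symm.trans (Category.id_comp _)
  refine ⟨{ I := I, DS := DS, aff := fun i => (hD i).1, π := fun i => e.hom ≫ (π.app i).left, w := hw,
            nat := fun {i j} a => (Category.assoc _ _ _).trans (congrArg (e.hom ≫ ·) (hnat a)), hc := ?_ }⟩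
  exact IsLimit.ofIsoLimit hc (Cone.ext e.symm fun i => (Iso.inv_hom_id_assoc e _).symm)

end PunctHensLib
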