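import Groth.Agent.EtPnCohLib.Collapse

/-!
# Leray exact sequence when the higher direct images are acyclic and the total cohomology vanishes
-/

set_option autoImplicit false
set_option linter.style.haveILetI false
set_option linter.all false
set_option backward.isDefEq.respectTransparency false
set_option backward.isDefEq.respectTransparency.types false
set_option maxHeartbeats 1000000

universe w v v' u' u''

open CategoryTheory CategoryTheory.Limits CategoryTheory.Abelian
open Groth.Agent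

noncomputable section

namespace PunctHensLib

variable {C : Type u'} [Category.{v} C] [Abelian C] [HasExt.{w} C]
  {D : Type u''} [Category.{v'} D] [Abelian D] [HasExt.{w} D] [EnoughInjectives D] [HasInjectiveResolutions D]
  {F : C ⥤ D} {G : D ⥤ C} [F.Additive] [G.Additive] (adj : F ⊣ G)
  [PreservesFiniteLimits F] [PreservesFiniteColimits F] [PreservesFiniteLimits G]

include adj

theorem exists_step (X : D) :
    ∃ (S : ShortComplex D) (_ : S.ShortExact) (_ : Injective S.X₂), S.X₁ = X ∧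
      ∃ (K : C) (c : K ⟶ G.obj S.X₃) (p : G.obj S.X₂ ⟶ K) (hp : G.map S.f ≫ p = 0),
        (ShortComplex.mk (G.map S.f) p hp).ShortExact ∧ Mono c ∧ p ≫ c = G.map S.g ∧
        Nonempty (cokernel c ≅ (G.rightDerived 1).obj X) ∧
        ∀ q : ℕ, 1 ≤ q → Nonempty ((G.rightDerived q).obj S.X₃ ≅ (G.rightDerived (q + 1)).obj X) := by
  let ip := (EnoughInjectives.presentation X).some
  haveI : Injective ip.J := ip.injective
  let S := ShortComplex.mk ip.f (cokernel.π ip.f) (cokernel.condition _)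
  have hS : S.ShortExact := { exact := ShortComplex.exact_of_g_is_cokernel _ (cokernelIsCokernel _) }
  haveI : Injective S.X₂ := ip.injective
  haveI : Mono (G.map S.f) := inferInstanceAs (Mono (G.map ip.f))
  have hex : (S.map G).Exact :=
    (((Functor.preservesFiniteLimits_tfae G).out 3 0 : PreservesFiniteLimits G ↔
      ∀ S : ShortComplex D, S.ShortExact → (S.map G).Exact ∧ Mono (G.map S.f))).1 ‹_› S hS |>.1
  let c : cokernel (G.map S.f) ⟶ G.obj S.X₃ := cokernel.desc _ (G.map S.g) (S.map G).zero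
  have hc : Mono c := (ShortComplex.exact_iff_mono_cokernel_desc (S.map G)).1 hex
  let p := cokernel.π (G.map S.f)
  refine ⟨S, hS, inferInstance, rfl, cokernel (G.map S.f), c, p, cokernel.condition _,
    { exact := ShortComplex.exact_of_g_is_cokernel _ (cokernelIsCokernel _) }, hc, cokernel.π_desc _ _ _, ?_,
    fun q hq => ?_⟩
  · let Δ := RDerLib.derivedLES G
    have h1 := Δ.exact₃ S hS 0 1 rfl
    haveI : Epi (Δ.δ S hS 0 1 rfl) :=
      (Δ.exact₁ S hS 0 1 rfl).epi_f ((G.isZero_rightDerived_obj_injective_succ 0 S.X₂).eq_of_tgt _ _)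
    let e₀ : cokernel ((G.rightDerived 0).map S.g) ≅ cokernel (G.map S.g) :=
      cokernel.mapIso _ _ (G.rightDerivedZeroIsoSelf.app S.X₂) (G.rightDerivedZeroIsoSelf.app S.X₃)
        (G.rightDerivedZeroIsoSelf.hom.naturality S.g)
    let e₁ : cokernel ((G.rightDerived 0).map S.g) ≅ (G.rightDerived 1).obj X :=
      (cokernelIsCokernel _).coconePointUniqueUpToIso h1.gIsCokernel
    let e₂ : cokernel (G.map S.g) ≅ cokernel c :=
      (cokernelIsoOfEq (show G.map S.g = p ≫ c from (cokernel.π_desc _ _ _).symm)).trans (cokernelEpiComp p c)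
    exact ⟨e₂.symm ≪≫ e₀.symm ≪≫ e₁⟩
  · obtain ⟨q', rfl⟩ := Nat.exists_eq_succ_of_ne_zero (by omega : q ≠ 0)
    exact EpsLib.nonempty_iso_succ G hS (q' + 1) (G.isZero_rightDerived_obj_injective_succ q' _)
      (G.isZero_rightDerived_obj_injective_succ (q' + 1) _)

variable (Z : C)

theorem subsingleton_ext_one (X : D) (hX : Subsingleton (Ext.{w} (F.obj Z) X 1)) :
    Subsingleton (Ext.{w} Z (G.obj X) 1) := by
  obtain ⟨S, hS, hI, rfl, K, c, p, hp, hT, hc, hpc, -, -⟩ := exists_step adj X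
  haveI : Injective (G.obj S.X₂) := Injective.injective_of_adjoint adj S.X₂
  refine subsingleton_of_forall_eq 0 fun x => ?_
  obtain ⟨k, hk⟩ := Ext.covariant_sequence_exact₁ Z hT x (n₁ := 1) (Ext.eq_zero_of_injective _) (n₀ := 0) rfl
  obtain ⟨k0, rfl⟩ := (Ext.mk₀_bijective _ _).2 k
  let y := (adj.homEquiv Z S.X₃).symm (k0 ≫ c)
  obtain ⟨h, hh⟩ := Ext.covariant_sequence_exact₃ (F.obj Z) hS (Ext.mk₀ y) (n₁ := 1) rfl (hX.elim _ _)
  obtain ⟨h0, rfl⟩ := (Ext.mk₀_bijective _ _).2 h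
  rw [Ext.mk₀_comp_mk₀] at hh
  have h1 : h0 ≫ S.g = y := (Ext.mk₀_bijective _ _).1 hh
  have h2 : adj.homEquiv Z S.X₂ h0 ≫ p = k0 := by
    rw [← cancel_mono c, Category.assoc, hpc, ← Adjunction.homEquiv_naturality_right, h1]
    exact Equiv.apply_symm_apply _ _
  rw [← hk, ← h2, ← Ext.mk₀_comp_mk₀, Ext.comp_assoc_of_second_deg_zero]
  show Ext.comp _ (Ext.comp (Ext.mk₀ (ShortComplex.mk (G.map S.f) p hp).g) hT.extClass (zero_add 1)) _ = 0
  rw [hT.comp_extClass, Ext.comp_zero]

/-- Global sections of the higher direct images. -/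
theorem nonempty_equiv : ∀ (q : ℕ) (X : D), (∀ m : ℕ, Subsingleton (Ext.{w} (F.obj Z) X (m + 1))) →
    (∀ r m : ℕ, Subsingleton (Ext.{w} Z ((G.rightDerived (r + 1)).obj X) (m + 1))) →
    Nonempty (Ext.{w} Z ((G.rightDerived (q + 1)).obj X) 0 ≃+ Ext.{w} Z (G.obj X) (q + 2)) := by
  intro q
  induction q with
  | zero =>
    intro X hX hR
    obtain ⟨S, hS, hI, rfl, K, c, p, hp, hT, hc, hpc, ⟨e⟩, hq⟩ := exists_step adj X
    haveI : Injective (G.obj S.X₂) := Injective.injective_of_adjoint adj S.X₂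
    have hX3 : Subsingleton (Ext.{w} (F.obj Z) S.X₃ 1) := subsingleton_of_forall_eq 0 fun x => by
      obtain ⟨y, hy⟩ := Ext.covariant_sequence_exact₃ (F.obj Z) hS x (n₁ := 2) rfl ((hX 1).elim _ _)
      rw [← hy, Ext.eq_zero_of_injective y, Ext.zero_comp]
    let T := ShortComplex.mk c (cokernel.π c) (cokernel.condition c)
    have hT2 : T.ShortExact := { exact := ShortComplex.exact_of_g_is_cokernel _ (cokernelIsCokernel _) }
    let Φ : Ext.{w} Z (cokernel c) 0 →+ Ext.{w} Z K 1 :=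
      AddMonoidHom.mk' (fun z => Ext.comp z hT2.extClass (zero_add 1)) fun a b => Ext.add_comp _ _ _ _
    have hΦ : Function.Bijective Φ := by
      refine ⟨(injective_iff_map_eq_zero Φ).2 fun z hz => ?_, fun w => ?_⟩
      · obtain ⟨y, hy⟩ := Ext.covariant_sequence_exact₃ Z hT2 z rfl hz
        obtain ⟨y0, rfl⟩ := (Ext.mk₀_bijective _ _).2 y
        let y' := (adj.homEquiv Z S.X₃).symm y0
        obtain ⟨h, hh⟩ := Ext.covariant_sequence_exact₃ (F.obj Z) hS (Ext.mk₀ y') (n₁ := 1) rfl ((hX 0).elim _ _)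
        obtain ⟨h0, rfl⟩ := (Ext.mk₀_bijective _ _).2 h
        rw [Ext.mk₀_comp_mk₀] at hh
        have h1 : h0 ≫ S.g = y' := (Ext.mk₀_bijective _ _).1 hh
        have h2 : y0 = (adj.homEquiv Z S.X₂ h0 ≫ p) ≫ c := by
          rw [Category.assoc, hpc, ← Adjunction.homEquiv_naturality_right, h1, Equiv.apply_symm_apply]
        rw [← hy, Ext.mk₀_comp_mk₀, h2]
        show Ext.mk₀ (((adj.homEquiv Z S.X₂ h0 ≫ p) ≫ c) ≫ cokernel.π c) = 0
        rw [Category.assoc, cokernel.condition, comp_zero, Ext.mk₀_zero]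
      · exact Ext.covariant_sequence_exact₁ Z hT2 w ((subsingleton_ext_one adj Z S.X₃ hX3).elim _ _) (n₀ := 0) rfl
    obtain ⟨e1⟩ := EtPnCohLib.nonempty_ext_iso_congr adj Z e 0
    let Ψ : Ext.{w} Z K 1 →+ Ext.{w} Z (G.obj S.X₁) 2 :=
      AddMonoidHom.mk' (fun z => Ext.comp z hT.extClass rfl) fun a b => Ext.add_comp _ _ _ _
    have hΨ : Function.Bijective Ψ := by
      refine ⟨(injective_iff_map_eq_zero Ψ).2 fun z hz => ?_, fun w => ?_⟩
      · obtain ⟨y, hy⟩ := Ext.covariant_sequence_exact₃ Z hT z rfl hz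
        rw [← hy, Ext.eq_zero_of_injective y, Ext.zero_comp]
      · exact Ext.covariant_sequence_exact₁ Z hT w (Ext.eq_zero_of_injective _) (n₀ := 1) rfl
    exact ⟨e1.symm.trans ((AddEquiv.ofBijective Φ hΦ).trans (AddEquiv.ofBijective Ψ hΨ))⟩
  | succ q ih =>
    intro X hX hR
    obtain ⟨S, hS, hI, rfl, K, c, p, hp, hT, hc, hpc, ⟨e⟩, hq⟩ := exists_step adj X
    haveI : Injective (G.obj S.X₂) := Injective.injective_of_adjoint adj S.X₂
    have hX3 : ∀ m : ℕ, Subsingleton (Ext.{w} (F.obj Z) S.X₃ (m + 1)) := fun m =>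
      subsingleton_of_forall_eq 0 fun x => by
        obtain ⟨y, hy⟩ := Ext.covariant_sequence_exact₃ (F.obj Z) hS x (n₁ := m + 2) rfl ((hX (m + 1)).elim _ _)
        rw [← hy, Ext.eq_zero_of_injective y, Ext.zero_comp]
    have hR3 : ∀ r m : ℕ, Subsingleton (Ext.{w} Z ((G.rightDerived (r + 1)).obj S.X₃) (m + 1)) := fun r m => by
      obtain ⟨i⟩ := hq (r + 1) (by omega)
      obtain ⟨i'⟩ := EtPnCohLib.nonempty_ext_iso_congr adj Z i (m + 1)
      haveI := hR (r + 1) m
      exact i'.toEquiv.subsingleton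
    have hco : ∀ m : ℕ, Subsingleton (Ext.{w} Z (cokernel c) (m + 1)) := fun m => by
      obtain ⟨i'⟩ := EtPnCohLib.nonempty_ext_iso_congr adj Z e (m + 1)
      haveI := hR 0 m
      exact i'.toEquiv.subsingleton
    let T := ShortComplex.mk c (cokernel.π c) (cokernel.condition c)
    have hT2 : T.ShortExact := { exact := ShortComplex.exact_of_g_is_cokernel _ (cokernelIsCokernel _) }
    obtain ⟨eih⟩ := ih S.X₃ hX3 hR3
    obtain ⟨i⟩ := hq (q + 1) (by omega)
    obtain ⟨e1⟩ := EtPnCohLib.nonempty_ext_iso_congr adj Z i 0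
    let M : Ext.{w} Z K (q + 2) →+ Ext.{w} Z (G.obj S.X₃) (q + 2) := TorsBCLib.em Z c (q + 2)
    have hM : Function.Bijective M := by
      refine ⟨(injective_iff_map_eq_zero M).2 fun z hz => ?_, fun w => ?_⟩
      · obtain ⟨y, hy⟩ := Ext.covariant_sequence_exact₁ Z hT2 z hz (n₀ := q + 1) rfl
        rw [← hy, (hco q).elim y 0, Ext.zero_comp]
      · exact Ext.covariant_sequence_exact₂ Z hT2 w ((hco (q + 1)).elim _ _)
    let Ψ : Ext.{w} Z K (q + 2) →+ Ext.{w} Z (G.obj S.X₁) (q + 1 + 2) :=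
      AddMonoidHom.mk' (fun z => Ext.comp z hT.extClass (by omega)) fun a b => Ext.add_comp _ _ _ _
    have hΨ : Function.Bijective Ψ := by
      refine ⟨(injective_iff_map_eq_zero Ψ).2 fun z hz => ?_, fun w => ?_⟩
      · obtain ⟨y, hy⟩ := Ext.covariant_sequence_exact₃ Z hT z (n₁ := q + 1 + 2) (by omega) hz
        rw [← hy, Ext.eq_zero_of_injective y, Ext.zero_comp]
      · exact Ext.covariant_sequence_exact₁ Z hT w (Ext.eq_zero_of_injective _) (n₀ := q + 2) (by omega)
    exact ⟨e1.symm.trans (eih.trans ((AddEquiv.ofBijective M hM).symm.trans (AddEquiv.ofBijective Ψ hΨ)))⟩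

end PunctHensLib
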