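import Groth.Agent.PunctLineLib.Main
import Groth.Agent.EtShLib.SamePoint
import Groth.Agent.EtRpushStalkLib.Iso
import Groth.Agent.EtHensGmLib.Main

/-!
# Sheaves supported on a strictly henselian closed subscheme
-/

set_option autoImplicit false
set_option linter.style.haveILetI false
set_option linter.unusedSectionVars false
set_option backward.isDefEq.respectTransparency false
set_option backward.isDefEq.respectTransparency.types false
set_option synthInstance.maxHeartbeats 400000
set_option maxHeartbeats 2000000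

universe u

open CategoryTheory CategoryTheory.Limits CategoryTheory.Abelian AlgebraicGeometry Opposite
open Groth.Agent Groth.Agent.EtShLib

attribute [local instance] EtSliceLib.pullExact

noncomputable section

namespace PunctHensLib

variable {X : Scheme.{u}} {A : Type u} [CommRing A] [HenselianLocalRing A] [IsSepClosed (IsLocalRing.ResidueField A)]
  (i : Spec (CommRingCat.of A) ⟶ X) [IsClosedImmersion i] (Q : EtCoh.Ab X)
  (hQ : ∀ (Ω : Type u) [Field Ω] [IsSepClosed Ω] (ξ : Spec (CommRingCat.of Ω) ⟶ X),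
    ξ.base default ∉ Set.range i.base → IsZero ((stk (A := AddCommGrpCat.{u + 1}) ξ).obj Q))

include hQ in
theorem isIso_unit : IsIso ((EtCoh.pullPushAdj i).unit.app Q) := by
  refine isIso_of_stalks (A := AddCommGrpCat.{u + 1}) _ fun Ω _ _ ξ => ?_
  by_cases h : ξ.base default ∈ Set.range i.base
  · exact PunctLineLib.isIso_stk_unit (fun _ : Unit => i) Q () ξ h
  · exact isIso_of_source_target_iso_zero _ (hQ Ω ξ h).isoZero
      (PunctLineLib.isZero_stk_sky (fun _ : Unit => i) Q () ξ h).isoZero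

include hQ in
theorem nonempty_H_equiv (m : ℕ) :
    Nonempty (EtCoh.H X Q m ≃+ EtCoh.H (Spec (CommRingCat.of A)) ((EtCoh.pull i).obj Q) m) := by
  haveI := isIso_unit i Q hQ
  let f : EtCoh.H X ((EtCoh.push i).obj ((EtCoh.pull i).obj Q)) m →+ EtCoh.H (Spec (CommRingCat.of A)) ((EtCoh.pull i).obj Q) m :=
    AddMonoidHom.mk' (CovDevLib.mu (p := i) ((EtCoh.pull i).obj Q) m) fun a b => by
      show Ext.comp (EtCore.Hpull i _ m (a + b)) _ _ = _
      rw [map_add, Ext.add_comp]
      rfl
  exact ⟨((EtCoh.HF X m).mapIso (asIso ((EtCoh.pullPushAdj i).unit.app Q))).addCommGroupIsoToAddEquiv.trans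
    (AddEquiv.ofBijective f (CovDevLib.bijective_mu (p := i) _ m))⟩

theorem subsingleton_H_strict (G : EtCoh.Ab (Spec (CommRingCat.of A))) (m : ℕ) :
    Subsingleton (EtCoh.H (Spec (CommRingCat.of A)) G (m + 1)) := by
  haveI := SkySumLib.isSepClosed_residueField_self (IsLocalRing.ResidueField A)
  have h := EtHensGmLib.bijective_Hpull_point A (IsLocalRing.residue A) IsLocalRing.residue_surjective G (m + 1)
  exact ⟨fun x y => h.1 (by rw [EtAcycFibLib.eq_zero_of_point _ m (EtCore.Hpull _ G (m + 1) x),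
    EtAcycFibLib.eq_zero_of_point _ m (EtCore.Hpull _ G (m + 1) y)])⟩

include hQ in
theorem subsingleton_H (m : ℕ) : Subsingleton (EtCoh.H X Q (m + 1)) := by
  obtain ⟨e⟩ := nonempty_H_equiv i Q hQ (m + 1)
  haveI := subsingleton_H_strict ((EtCoh.pull i).obj Q) m
  exact e.toEquiv.subsingleton

include hQ in
theorem nonempty_H_zero {Ω : Type u} [Field Ω] [IsSepClosed Ω] (ξ : Spec (CommRingCat.of Ω) ⟶ X)
    (hξ : ξ.base default = (closedPt A ≫ i).base default) :
    Nonempty (EtCoh.H X Q 0 ≃+ (stk (A := AddCommGrpCat.{u + 1}) ξ).obj Q) := by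
  obtain ⟨e⟩ := nonempty_H_equiv i Q hQ 0
  obtain ⟨s⟩ := nonempty_stk_iso_of_eq (A := AddCommGrpCat.{u + 1}) (ξ := ξ) (ξ' := closedPt A ≫ i) hξ.symm
  let R := (EtCoh.pull i).obj Q
  let g := germ (A := AddCommGrpCat.{u + 1}) (closedPt A) R (EtCoh.top _) (topPt A)
  haveI : IsIso g := (ConcreteCategory.isIso_iff_bijective _).2 (bijective_germ_top A R)
  let E : (extFunctorObj (EtCoh.const (Spec (CommRingCat.of A)) ℤ) 0).obj R ≅
      (stk (A := AddCommGrpCat.{u + 1}) (closedPt A)).obj R :=
    (EtRpushStalkLib.extZeroGsec (Spec (CommRingCat.of A))).app R ≪≫ asIso g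
  exact ⟨(e.trans E.addCommGroupIsoToAddEquiv).trans
    ((asIso ((stalkPull i (closedPt A) AddCommGrpCat.{u + 1}).hom.app Q)).symm ≪≫
      (s.app Q).symm).addCommGroupIsoToAddEquiv⟩

end PunctHensLib
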