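import Groth.Agent.PunctHensLib.Line
import Groth.Agent.PunctHensLib.Shift
import Groth.Agent.PunctHensLib.Supp
import Groth.Agent.PunctHensLib.Local
import Groth.Agent.EtPnCohLib.Main
import Groth.Agent.EtConeLib.Line
import Groth.Agent.EtArtinLib.OpenImm
import Groth.Agent.S3095
import Groth.Agent.S3100

/-!
# Cohomology of the henselian line minus the origin
-/

set_option autoImplicit false
set_option linter.style.haveILetI false
set_option linter.unusedSectionVars false
set_option backward.isDefEq.respectTransparency false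
set_option backward.isDefEq.respectTransparency.types false
set_option synthInstance.maxHeartbeats 400000
set_option maxHeartbeats 2000000

universe u

open CategoryTheory CategoryTheory.Limits CategoryTheory.Abelian AlgebraicGeometry Polynomial
open Groth.Agent Groth.Agent.EtShLib EtPnCohLib

attribute [local instance] EtSliceLib.pullExact

noncomputable section

namespace PunctHensLib

variable (A : Type u) [CommRing A] [HenselianLocalRing A] [IsSepClosed (IsLocalRing.ResidueField A)]
  (n : ℕ) (hn : IsUnit (n : A))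

include hn in
theorem natCast_residue_ne_zero : (n : IsLocalRing.ResidueField A) ≠ 0 := by
  have := (hn.map (IsLocalRing.residue A)).ne_zero
  rwa [map_natCast] at this

include hn in
theorem pos : 0 < n := Nat.pos_of_ne_zero fun h => natCast_residue_ne_zero A n hn (by rw [h, Nat.cast_zero])

include hn in
theorem subsingleton_H_aLine (m : ℕ) :
    Subsingleton (EtCoh.H (Spec (CommRingCat.of A[X])) (cn (Spec (CommRingCat.of A[X])) n) (m + 1)) := by
  obtain ⟨ℓ, hℓ, hℓ0⟩ := EtConeLib.exists_prime_ne_zero (IsLocalRing.ResidueField A)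
  have hu : IsUnit (ℓ : A) := by
    rw [← IsLocalRing.notMem_maximalIdeal, ← IsLocalRing.residue_eq_zero_iff, map_natCast]
    exact hℓ0
  have h := EtConeLib.lineInvariant A n (pos A n hn) hn ⟨ℓ, hℓ, hu⟩ (m + 1)
  haveI := subsingleton_H_strict (cn (Spec (CommRingCat.of A)) n) m
  exact h.2.subsingleton

include hn in
theorem isIso_unit_chart :
    IsIso ((EtCoh.pullPushAdj (chart A 0)).unit.app (cn (CohB1.ProjSpace 1 A) n)) := by
  let b := CohB1.ProjSpace.toSpec 1 A
  haveI : Smooth b := smooth_toSpec A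
  haveI h0 := Groth.Agent.S3100.result b (chart A 0) (dense_fibrewise A) (cn (Spec (CommRingCat.of A)) n)
  let e := EtCore.pullConst b (ZMod n)
  let a := chart A 0
  have h2 := (EtCoh.pullPushAdj a).unit.naturality e.hom
  haveI : IsIso ((𝟭 (EtCoh.Ab _)).map e.hom) := inferInstanceAs (IsIso e.hom)
  haveI : IsIso ((𝟭 (EtCoh.Ab _)).map e.hom ≫ (EtCoh.pullPushAdj a).unit.app (cn (CohB1.ProjSpace 1 A) n)) := by
    rw [h2]; infer_instance
  exact IsIso.of_isIso_comp_left ((𝟭 (EtCoh.Ab _)).map e.hom) _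

include hn in
/-- Cohomology of the projective line is that of the special fibre. -/
theorem proj_line (q : ℕ) :
    (2 < q → Subsingleton (EtCoh.H (CohB1.ProjSpace 1 A) (cn (CohB1.ProjSpace 1 A) n) q)) ∧
      (q = 2 → Nonempty (EtCoh.H (CohB1.ProjSpace 1 A) (cn (CohB1.ProjSpace 1 A) n) q ≃+ ZMod n)) := by
  let k := IsLocalRing.ResidueField A
  let b := CohB1.ProjSpace.toSpec 1 A
  haveI : IsProper b := StratLib.isProper_toSpec 1 A
  let r := Spec.map (CommRingCat.ofHom (IsLocalRing.residue A))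
  obtain ⟨qK, hK, -⟩ := PicPnLib.exists_map 1 k
  obtain ⟨qk, hk, -⟩ := PicPnLib.exists_map 1 A
  let j := hk.lift qK (CohB1.ProjSpace.toSpec 1 k ≫ r)
    (by rw [Category.assoc, specULiftZIsTerminal.hom_ext (r ≫ specULiftZIsTerminal.from _)
      (specULiftZIsTerminal.from _)]; exact hK.w)
  have hj : IsPullback j (CohB1.ProjSpace.toSpec 1 k) b r := by
    refine IsPullback.of_right ?_ (hk.lift_snd _ _ _) hk
    rw [hk.lift_fst, specULiftZIsTerminal.hom_ext (r ≫ specULiftZIsTerminal.from _) (specULiftZIsTerminal.from _)]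
    exact hK
  let e1 : EtCoh.H (CohB1.ProjSpace 1 A) (cn (CohB1.ProjSpace 1 A) n) q ≃+
      EtCoh.H (pullback b r) ((EtCoh.pull (pullback.fst b r)).obj (cn (CohB1.ProjSpace 1 A) n)) q :=
    AddEquiv.ofBijective (EtCore.Hpull (pullback.fst b r) (cn (CohB1.ProjSpace 1 A) n) q)
      (Groth.Agent.S3095.result A _ b (cn (CohB1.ProjSpace 1 A) n) (isTorsion_cn _ (pos A n hn)) q)
  obtain ⟨e2⟩ := nonempty_H_congr (EtCore.pullConst (pullback.fst b r) (ZMod n)) q
  obtain ⟨e3⟩ := nonempty_H_pull_iso hj.isoPullback.hom (cn (pullback b r) n) q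
  obtain ⟨e4⟩ := nonempty_H_congr (EtCore.pullConst hj.isoPullback.hom (ZMod n)) q
  have hnk := natCast_residue_ne_zero A n hn
  obtain ⟨e5⟩ := nonempty_H_projSpace_closure k n hnk 1 q
  have hnK : (n : AlgebraicClosure k) ≠ 0 := by
    rw [← map_natCast (algebraMap k (AlgebraicClosure k))]
    exact (_root_.map_ne_zero _).2 hnk
  obtain ⟨h1, h2⟩ := val_all (AlgebraicClosure k) n hnK 1 q
  let E := (((e1.trans e2).trans e3.symm).trans e4).trans e5
  refine ⟨fun hq => ?_, fun hq => ?_⟩
  · haveI := h1 (Or.inr (by omega))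
    exact E.toEquiv.subsingleton
  · subst hq
    obtain ⟨e6⟩ := h2 ⟨even_two, le_refl _⟩
    exact ⟨E.trans e6⟩

variable (B : Type u) [CommRing B] [HenselianLocalRing B] [IsSepClosed (IsLocalRing.ResidueField B)]
  [Algebra A[X] B] [Algebra.WeaklyEtale A[X] B]
  (hB : (IsLocalRing.maximalIdeal B).comap (algebraMap A[X] B) =
    (IsLocalRing.maximalIdeal A).comap (Polynomial.evalRingHom (0 : A)))

include hn hB in
theorem nonempty_H_punct (q : ℕ) :
    Nonempty (EtCoh.H (Spec (CommRingCat.of (Localization.Away (algebraMap A[X] B X))))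
        (cn (Spec (CommRingCat.of (Localization.Away (algebraMap A[X] B X)))) n) (q + 1) ≃+
      EtCoh.H (CohB1.ProjSpace 1 A) (cn (CohB1.ProjSpace 1 A) n) (q + 2)) := by
  let P := CohB1.ProjSpace 1 A
  let a := chart A 0
  haveI : QuasiCompact a := by
    haveI : IsProper (CohB1.ProjSpace.toSpec 1 A) := StratLib.isProper_toSpec 1 A
    haveI : QuasiCompact (a ≫ CohB1.ProjSpace.toSpec 1 A) := by rw [chart_toSpec]; infer_instance
    exact QuasiCompact.of_comp a (CohB1.ProjSpace.toSpec 1 A)
  haveI : PreservesLimitsOfSize.{0, 0} (EtCoh.push a) := (EtCoh.pullPushAdj a).rightAdjoint_preservesLimits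
  haveI : PreservesFiniteLimits (EtCoh.push a) := PreservesLimitsOfSize.preservesFiniteLimits _
  haveI : PreservesFiniteColimits (EtCoh.pull a) :=
    haveI : PreservesColimitsOfSize.{0, 0} (EtCoh.pull a) := (EtCoh.pullPushAdj a).leftAdjoint_preservesColimits
    PreservesColimitsOfSize.preservesFiniteColimits _
  haveI : (EtCoh.push a).Additive := (EtCoh.pullPushAdj a).right_adjoint_additive
  haveI : (EtCoh.pull a).Additive := (EtCoh.pullPushAdj a).left_adjoint_additive
  let M := cn P n
  let N := (EtCoh.pull a).obj M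
  have hX : ∀ m : ℕ, Subsingleton (Ext.{u + 1} ((EtCoh.pull a).obj (EtCoh.const P ℤ)) N (m + 1)) := fun m => by
    obtain ⟨i⟩ := nonempty_ext_pullConst a N (m + 1)
    obtain ⟨k⟩ := nonempty_H_congr (EtCore.pullConst a (ZMod n)) (m + 1)
    haveI := subsingleton_H_aLine A n hn m
    exact (i.trans k).toEquiv.subsingleton
  have hQ : ∀ (r : ℕ) (Ω : Type u) [Field Ω] [IsSepClosed Ω] (ξ : Spec (CommRingCat.of Ω) ⟶ P),
      ξ.base default ∉ Set.range (zeroSection A).base →
      IsZero ((stk (A := AddCommGrpCat.{u + 1}) ξ).obj ((EtCoh.Rpush a (r + 1)).obj N)) := fun r Ω _ _ ξ h => by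
    refine EtArtinLib.isZero_stk_Rpush_open a N (r + 1) r.succ_pos ξ ?_
    rw [range_zeroSection, Set.mem_compl_iff, not_not] at h
    exact h
  have hR : ∀ r m : ℕ, Subsingleton (Ext.{u + 1} (EtCoh.const P ℤ) (((EtCoh.push a).rightDerived (r + 1)).obj N) (m + 1)) :=
    fun r m => subsingleton_H (zeroSection A) ((EtCoh.Rpush a (r + 1)).obj N) (hQ r) m
  obtain ⟨eL⟩ := nonempty_equiv (EtCoh.pullPushAdj a) (EtCoh.const P ℤ) q N hX hR
  let eL' : EtCoh.H P ((EtCoh.Rpush a (q + 1)).obj N) 0 ≃+ EtCoh.H P ((EtCoh.push a).obj N) (q + 2) := eL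
  haveI := isIso_unit_chart A n hn
  let eU : EtCoh.H P M (q + 2) ≃+ EtCoh.H P ((EtCoh.push a).obj N) (q + 2) :=
    ((EtCoh.HF P (q + 2)).mapIso (asIso ((EtCoh.pullPushAdj a).unit.app M))).addCommGroupIsoToAddEquiv
  let gS : Spec (CommRingCat.of B) ⟶ P := Spec.map (CommRingCat.ofHom (algebraMap A[X] B)) ≫ chart A 1
  have hclosed : (closedPt B ≫ gS).base default = (closedPt A ≫ zeroSection A).base default := by
    show (chart A 1).base ((Spec.map (CommRingCat.ofHom (algebraMap A[X] B))).base ((closedPt B).base default)) =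
      (chart A 1).base ((Spec.map (CommRingCat.ofHom (Polynomial.evalRingHom (0 : A)))).base ((closedPt A).base default))
    congr 1
    apply PrimeSpectrum.ext
    let dB : PrimeSpectrum (IsLocalRing.ResidueField B) :=
      (default : Spec (CommRingCat.of (IsLocalRing.ResidueField B)))
    let dA : PrimeSpectrum (IsLocalRing.ResidueField A) :=
      (default : Spec (CommRingCat.of (IsLocalRing.ResidueField A)))
    show Ideal.comap (algebraMap A[X] B) (PrimeSpectrum.comap (IsLocalRing.residue B) dB).asIdeal =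
      Ideal.comap (Polynomial.evalRingHom (0 : A)) (PrimeSpectrum.comap (IsLocalRing.residue A) dA).asIdeal
    rw [IsLocalRing.PrimeSpectrum.comap_residue B dB, IsLocalRing.PrimeSpectrum.comap_residue A dA]
    exact hB
  obtain ⟨eH⟩ := nonempty_H_zero (zeroSection A) ((EtCoh.Rpush a (q + 1)).obj N) (hQ q) (closedPt B ≫ gS) hclosed
  let By := Localization.Away (algebraMap A[X] B X)
  let f' : Spec (CommRingCat.of By) ⟶ Spec (CommRingCat.of B) := Spec.map (CommRingCat.ofHom (algebraMap B By))
  have hrange : gS ⁻¹ᵁ a.opensRange = f'.opensRange := by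
    rw [opensRange_chart, Scheme.Hom.comp_preimage, chart_one_preimage]
    apply TopologicalSpace.Opens.ext
    refine Eq.trans ?_ (PrimeSpectrum.localization_away_comap_range By (algebraMap A[X] B X)).symm
    rfl
  have hsub : Set.range (f' ≫ gS).base ⊆ Set.range a.base := by
    rintro _ ⟨z, rfl⟩
    have hz : f'.base z ∈ gS ⁻¹ᵁ a.opensRange := by rw [hrange]; exact ⟨z, rfl⟩
    exact hz
  let g' := IsOpenImmersion.lift a (f' ≫ gS) hsub
  have sq : IsPullback g' f' a gS :=
    IsOpenImmersion.isPullback g' f' a gS (IsOpenImmersion.lift_fac _ _ _).symm hrange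
  obtain ⟨C⟩ := nonempty_chart (A := A[X]) (R := B) (chart A 1)
  obtain ⟨eS⟩ := EtRpushStalkLib.nonempty_iso a sq C (q + 1)
  let eS' : (stk (A := AddCommGrpCat.{u + 1}) (closedPt B ≫ gS)).obj ((EtCoh.Rpush a (q + 1)).obj N) ≃+
      EtCoh.H (Spec (CommRingCat.of By)) ((EtCoh.pull g').obj N) (q + 1) :=
    (eS.app N).addCommGroupIsoToAddEquiv
  obtain ⟨e7⟩ := nonempty_H_congr ((EtCoh.pull g').mapIso (EtCore.pullConst a (ZMod n)) ≪≫
    EtCore.pullConst g' (ZMod n)) (q + 1)
  exact ⟨(eS'.trans e7).symm.trans (eH.symm.trans (eL'.trans eU.symm))⟩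

include hn hB in
theorem cohomology_punct :
    Nonempty (EtCoh.H (Spec (CommRingCat.of (Localization.Away (algebraMap A[X] B X))))
        (cn (Spec (CommRingCat.of (Localization.Away (algebraMap A[X] B X)))) n) 1 ≃+ ZMod n) ∧
      ∀ q : ℕ, 2 ≤ q → Subsingleton (EtCoh.H (Spec (CommRingCat.of (Localization.Away (algebraMap A[X] B X))))
        (cn (Spec (CommRingCat.of (Localization.Away (algebraMap A[X] B X)))) n) q) := by
  refine ⟨?_, fun q hq => ?_⟩
  · obtain ⟨e⟩ := nonempty_H_punct A n hn B hB 0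
    obtain ⟨e'⟩ := (proj_line A n hn 2).2 rfl
    exact ⟨e.trans e'⟩
  · obtain ⟨m, rfl⟩ : ∃ m, q = m + 1 := ⟨q - 1, by omega⟩
    obtain ⟨e⟩ := nonempty_H_punct A n hn B hB m
    haveI := (proj_line A n hn (m + 2)).1 (by omega)
    exact e.toEquiv.subsingleton

end PunctHensLib
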